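import Mathlib.GroupTheory.Index
import Mathlib.GroupTheory.OrderOfElement
import Mathlib.GroupTheory.QuotientGroup.Basic
import Mathlib.Data.Fin.VecNotation
import Mathlib.Data.Nat.Prime.Basic
import Mathlib.Tactic.Group
import Mathlib.Tactic.NormNum
import Mathlib.Tactic.NormNum.Prime
import Mathlib.Tactic.FinCases

/-!
# The last step of the cover certificate for `Ω₉(3)` (helper849, S2464)

`N ⊴ O`, `|O : N| = 4`, coset representatives `1, s, t, s t` (`s ^ 2 = 1`) commuting with `X` and `Y`: conjugation by `O` is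
conjugation by `N`, and the elements of order `41` lie in `N`.
-/

set_option autoImplicit false

namespace Cfsg.Agent.H849.O9

open Subgroup

variable {Γ : Type*} [Group Γ] {O N : Subgroup Γ}

theorem normal_sub (hcj : ∀ a ∈ O, ∀ x ∈ N, a * x * a⁻¹ ∈ N) : (N.subgroupOf O).Normal := by
  refine ⟨fun n hn g => ?_⟩
  rw [mem_subgroupOf] at hn ⊢
  exact hcj _ g.2 _ hn

theorem index_four (hle : N ≤ O) (hfin : Nat.card N ≠ 0) (hcard : Nat.card O = 4 * Nat.card N) :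
    (N.subgroupOf O).index = 4 := by
  have h1 := (N.subgroupOf O).card_mul_index
  have h2 : Nat.card (N.subgroupOf O) = Nat.card N := Nat.card_congr (subgroupOfEquivOfLe hle).toEquiv
  rw [h2, hcard, mul_comm 4] at h1
  exact Nat.eq_of_mul_eq_mul_left (Nat.pos_of_ne_zero hfin) h1

/-- elements of order `41` -/
theorem mem_of_pow (hle : N ≤ O) (hcj : ∀ a ∈ O, ∀ x ∈ N, a * x * a⁻¹ ∈ N) (hfin : Nat.card N ≠ 0)
    (hcard : Nat.card O = 4 * Nat.card N) {z : Γ} (hz : z ∈ O) (h : z ^ 41 = 1) : z ∈ N := by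
  have := normal_sub hcj
  have h4 : z ^ 4 ∈ N := by
    have h1 := (N.subgroupOf O).pow_index_mem (⟨z, hz⟩ : O)
    rw [index_four hle hfin hcard, mem_subgroupOf] at h1
    exact h1
  have h5 : z = (z ^ 4) ^ 31 * ((z ^ 41) ^ 3)⁻¹ := by
    rw [← pow_mul, ← pow_mul, ← pow_sub z (by norm_num : 41 * 3 ≤ 4 * 31)]
    norm_num
  rw [h5, h, one_pow, inv_one, mul_one]
  exact N.pow_mem h4 _

/-- coset representatives -/
theorem exists_factor (hle : N ≤ O) (hcj : ∀ a ∈ O, ∀ x ∈ N, a * x * a⁻¹ ∈ N) (hfin : Nat.card N ≠ 0)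
    (hcard : Nat.card O = 4 * Nat.card N) {s t : Γ} (hs : s ∈ O) (ht : t ∈ O) (hss : s * s = 1) (h1 : s ∉ N)
    (h2 : t ∉ N) (h3 : s * t ∉ N) {a : Γ} (ha : a ∈ O) :
    ∃ u ∈ N, ∃ c : Γ, (c = 1 ∨ c = s ∨ c = t ∨ c = s * t) ∧ a = u * c := by
  have := normal_sub hcj
  have hidx := index_four hle hfin hcard
  have hsi : s⁻¹ = s := inv_eq_of_mul_eq_one_left hss
  -- the four cosets
  set S : O := ⟨s, hs⟩ with hS
  set T : O := ⟨t, ht⟩ with hT
  let f : Fin 4 → O ⧸ N.subgroupOf O := ![((1 : O) : O ⧸ N.subgroupOf O), (S : O ⧸ N.subgroupOf O),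
    (T : O ⧸ N.subgroupOf O), ((S * T : O) : O ⧸ N.subgroupOf O)]
  have key : ∀ x y : O, (x : O ⧸ N.subgroupOf O) = (y : O ⧸ N.subgroupOf O) → (x : Γ)⁻¹ * (y : Γ) ∈ N := by
    intro x y h
    have h' := QuotientGroup.eq.1 h
    rw [mem_subgroupOf] at h'
    exact h'
  have e01 : ((1 : O) : O ⧸ N.subgroupOf O) ≠ (S : O ⧸ N.subgroupOf O) := by
    intro h
    have h' := key _ _ h
    rw [OneMemClass.coe_one, inv_one, one_mul] at h'
    exact h1 h'
  have e02 : ((1 : O) : O ⧸ N.subgroupOf O) ≠ (T : O ⧸ N.subgroupOf O) := by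
    intro h
    have h' := key _ _ h
    rw [OneMemClass.coe_one, inv_one, one_mul] at h'
    exact h2 h'
  have e03 : ((1 : O) : O ⧸ N.subgroupOf O) ≠ ((S * T : O) : O ⧸ N.subgroupOf O) := by
    intro h
    have h' := key _ _ h
    rw [OneMemClass.coe_one, inv_one, one_mul] at h'
    exact h3 h'
  have e12 : (S : O ⧸ N.subgroupOf O) ≠ (T : O ⧸ N.subgroupOf O) := by
    intro h
    have h' := key _ _ h
    rw [hS, hsi] at h'
    exact h3 h'
  have e13 : (S : O ⧸ N.subgroupOf O) ≠ ((S * T : O) : O ⧸ N.subgroupOf O) := by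
    intro h
    have h' := key _ _ h
    rw [Subgroup.coe_mul, inv_mul_cancel_left] at h'
    exact h2 h'
  have e23 : (T : O ⧸ N.subgroupOf O) ≠ ((S * T : O) : O ⧸ N.subgroupOf O) := by
    intro h
    have h' := key _ _ h
    have h4 := hcj t ht _ h'
    have h5 : t * ((T : Γ)⁻¹ * ((S * T : O) : Γ)) * t⁻¹ = s := by
      rw [Subgroup.coe_mul, hS, hT]
      group
    rw [h5] at h4
    exact h1 h4
  have hinj : Function.Injective f := by
    intro i j hij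
    fin_cases i <;> fin_cases j <;>
      first
        | rfl
        | exact absurd hij e01
        | exact absurd hij e02
        | exact absurd hij e03
        | exact absurd hij e12
        | exact absurd hij e13
        | exact absurd hij e23
        | exact absurd hij.symm e01
        | exact absurd hij.symm e02
        | exact absurd hij.symm e03
        | exact absurd hij.symm e12
        | exact absurd hij.symm e13
        | exact absurd hij.symm e23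
  have hc : Nat.card (O ⧸ N.subgroupOf O) = 4 := hidx
  have : Finite (O ⧸ N.subgroupOf O) := Nat.finite_of_card_ne_zero (by rw [hc]; norm_num)
  have hsur : Function.Surjective f :=
    (hinj.bijective_of_nat_card_le (by rw [hc, Nat.card_eq_fintype_card, Fintype.card_fin])).2
  have fin : ∀ c : O, (c : O ⧸ N.subgroupOf O) = ((⟨a, ha⟩ : O) : O ⧸ N.subgroupOf O) →
      ∃ u ∈ N, a = u * (c : Γ) := by
    intro c h
    have h' := key _ _ h
    have h4 := hcj c c.2 _ h'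
    refine ⟨_, h4, ?_⟩
    show a = (c : Γ) * ((c : Γ)⁻¹ * a) * (c : Γ)⁻¹ * (c : Γ)
    group
  obtain ⟨i, hi⟩ := hsur ((⟨a, ha⟩ : O) : O ⧸ N.subgroupOf O)
  fin_cases i
  · obtain ⟨u, hu, e⟩ := fin 1 hi
    exact ⟨u, hu, 1, Or.inl rfl, e⟩
  · obtain ⟨u, hu, e⟩ := fin S hi
    exact ⟨u, hu, s, Or.inr (Or.inl rfl), e⟩
  · obtain ⟨u, hu, e⟩ := fin T hi
    exact ⟨u, hu, t, Or.inr (Or.inr (Or.inl rfl)), e⟩
  · obtain ⟨u, hu, e⟩ := fin (S * T) hi
    exact ⟨u, hu, s * t, Or.inr (Or.inr (Or.inr rfl)), e⟩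

/-- conjugation by `O` is conjugation by `N` -/
theorem conj_eq (hle : N ≤ O) (hcj : ∀ a ∈ O, ∀ x ∈ N, a * x * a⁻¹ ∈ N) (hfin : Nat.card N ≠ 0)
    (hcard : Nat.card O = 4 * Nat.card N) {s t : Γ} (hs : s ∈ O) (ht : t ∈ O) (hss : s * s = 1) (h1 : s ∉ N)
    (h2 : t ∉ N) (h3 : s * t ∉ N) {X : Γ} (hsX : s * X = X * s) (htX : t * X = X * t) {a : Γ} (ha : a ∈ O) :
    ∃ u ∈ N, a * X * a⁻¹ = u * X * u⁻¹ := by
  obtain ⟨u, hu, c, hc, rfl⟩ := exists_factor hle hcj hfin hcard hs ht hss h1 h2 h3 ha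
  refine ⟨u, hu, ?_⟩
  have hcX : c * X = X * c := by
    rcases hc with rfl | rfl | rfl | rfl
    · rw [one_mul, mul_one]
    · exact hsX
    · exact htX
    · rw [mul_assoc, htX, ← mul_assoc, hsX, mul_assoc]
  have e : u * c * X * (u * c)⁻¹ = u * (c * X) * c⁻¹ * u⁻¹ := by group
  rw [e, hcX]
  group

/-- **The last step.** -/
theorem fin_step (hle : N ≤ O) (hcj : ∀ a ∈ O, ∀ x ∈ N, a * x * a⁻¹ ∈ N) (hfin : Nat.card N ≠ 0)
    (hcard : Nat.card O = 4 * Nat.card N) {s t : Γ} (hs : s ∈ O) (ht : t ∈ O) (hss : s * s = 1) (h1 : s ∉ N)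
    (h2 : t ∉ N) (h3 : s * t ∉ N) {X Y : Γ} (hX : X ∈ O) (hY : Y ∈ O) (hX41 : X ^ 41 = 1) (hY41 : Y ^ 41 = 1)
    (hX1 : X ≠ 1) (hY1 : Y ≠ 1) (hsX : s * X = X * s) (hsY : s * Y = Y * s) (htX : t * X = X * t)
    (htY : t * Y = Y * t)
    (hcov : ∀ g ∈ N, g = 1 ∨ ∃ a ∈ O, ∃ p ∈ O, g = a * (X * (p * Y * p⁻¹)) * a⁻¹) :
    ∃ X ∈ N, ∃ Y ∈ N, orderOf X = 41 ∧ orderOf Y = 41 ∧ ∀ g ∈ N, g ≠ 1 → ∃ u ∈ N, ∃ v ∈ N,
      g = (u * X * u⁻¹) * (v * Y * v⁻¹) := by
  have : Fact (Nat.Prime 41) := ⟨by norm_num⟩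
  refine ⟨X, mem_of_pow hle hcj hfin hcard hX hX41, Y, mem_of_pow hle hcj hfin hcard hY hY41,
    orderOf_eq_prime hX41 hX1, orderOf_eq_prime hY41 hY1, fun g hg hg1 => ?_⟩
  rcases hcov g hg with h | ⟨a, ha, p, hp, h⟩
  · exact absurd h hg1
  · obtain ⟨u, hu, e1⟩ := conj_eq hle hcj hfin hcard hs ht hss h1 h2 h3 hsX htX ha
    obtain ⟨v, hv, e2⟩ := conj_eq hle hcj hfin hcard hs ht hss h1 h2 h3 hsY htY (O.mul_mem ha hp)
    refine ⟨u, hu, v, hv, ?_⟩
    rw [← e1, ← e2, h]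
    group

end Cfsg.Agent.H849.O9
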